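import Mathlib
import Groth.Prelude.Def_RelSpec

/-!
# Morphisms of relative spectra attached to q-morphisms
-/

set_option autoImplicit false
universe u

open CategoryTheory CategoryTheory.Limits AlgebraicGeometry TopologicalSpace Opposite

namespace Groth.Agent.RelSpecQMor

variable {S S' : Scheme.{u}}

theorem isIso_gammaAff (A : RelSpec.QCAlg S) (U : S.Opens) (hU : IsAffineOpen U) : IsIso (A.gammaAff U hU) := by
  haveI := (A.ι U hU).isIso_app (A.π ⁻¹ᵁ U) (A.π_preimage U hU).le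
  have htop : (⊤ : (Spec (A.presheaf.obj (op U))).Opens) = A.ι U hU ⁻¹ᵁ (A.π ⁻¹ᵁ U) :=
    le_antisymm (A.top_le_preimage U hU) le_top
  haveI : IsIso (homOfLE (A.top_le_preimage U hU)).op := by
    rw [show homOfLE (A.top_le_preimage U hU) = eqToHom htop from Subsingleton.elim _ _]
    infer_instance
  unfold RelSpec.QCAlg.gammaAff Scheme.Hom.appLE
  infer_instance

theorem ι_res' (A : RelSpec.QCAlg S) {U V : S.Opens} (hU : IsAffineOpen U) (hV : IsAffineOpen V) (h : V ≤ U) :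
    Spec.map (A.presheaf.map (homOfLE h).op) ≫ A.ι U hU = A.ι V hV := by
  have hr : Set.range (A.ι V hV) ⊆ Set.range (A.ι U hU) := by
    intro y hy
    have h1 := congrArg (fun W : A.spec.Opens => (W : Set A.spec)) (A.π_preimage V hV)
    have h2 := congrArg (fun W : A.spec.Opens => (W : Set A.spec)) (A.π_preimage U hU)
    exact (Set.ext_iff.1 h2 y).1 (h ((Set.ext_iff.1 h1 y).2 hy))
  obtain ⟨ψ, hψ⟩ := Spec.map_surjective (IsOpenImmersion.lift (A.ι U hU) (A.ι V hV) hr)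
  have hfac : Spec.map ψ ≫ A.ι U hU = A.ι V hV := by rw [hψ, IsOpenImmersion.lift_fac]
  suffices hψ' : ψ = A.presheaf.map (homOfLE h).op by rw [← hψ', hfac]
  haveI := isIso_gammaAff A U hU
  rw [← cancel_epi (A.gammaAff U hU)]
  have hnat : A.spec.presheaf.map (homOfLE (A.π.preimage_mono h)).op ≫ A.gammaAff V hV =
      A.gammaAff U hU ≫ A.presheaf.map (homOfLE h).op := by
    rw [← A.gammaMap_app U hU, ← A.gammaMap_app V hV]
    exact A.gammaMap.naturality (homOfLE h).op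
  rw [← hnat, RelSpec.QCAlg.gammaAff, RelSpec.QCAlg.gammaAff, Category.assoc, ← Scheme.ΓSpecIso_naturality,
    ← Category.assoc, ← Category.assoc, Scheme.Hom.map_appLE]
  congr 1
  rw [show (Spec.map ψ).appTop = (Spec.map ψ).appLE ⊤ ⊤ le_rfl from (Scheme.Hom.appLE_eq_app _).symm, Scheme.Hom.appLE_comp_appLE]
  simp only [hfac]

/-- pairs of affine opens -/
def Pairs (q : S' ⟶ S) : Type u :=
  {p : S.affineOpens × S'.affineOpens // p.2.1 ≤ q ⁻¹ᵁ p.1.1}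

variable (q : S' ⟶ S) (B : RelSpec.QCAlg S) (B' : RelSpec.QCAlg S') (u : B.presheaf ⟶ q.base _* B'.presheaf)

/-- the ring map of a pair -/
noncomputable def φ (p : Pairs q) : B.presheaf.obj (op p.1.1.1) ⟶ B'.presheaf.obj (op p.1.2.1) :=
  (u.app (op p.1.1.1) : B.presheaf.obj (op p.1.1.1) ⟶ B'.presheaf.obj (op (q ⁻¹ᵁ p.1.1.1))) ≫
    B'.presheaf.map (homOfLE p.2).op

theorem φ_res (p p' : Pairs q) (h₁ : p'.1.1.1 ≤ p.1.1.1) (h₂ : p'.1.2.1 ≤ p.1.2.1) :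
    φ q B B' u p ≫ B'.presheaf.map (homOfLE h₂).op = B.presheaf.map (homOfLE h₁).op ≫ φ q B B' u p' := by
  have hn : u.app (op p.1.1.1) ≫ B'.presheaf.map (homOfLE (q.preimage_mono h₁)).op =
      B.presheaf.map (homOfLE h₁).op ≫ u.app (op p'.1.1.1) := (u.naturality (homOfLE h₁).op).symm
  calc φ q B B' u p ≫ B'.presheaf.map (homOfLE h₂).op
      = u.app (op p.1.1.1) ≫ B'.presheaf.map (homOfLE (h₂.trans p.2)).op := by
        rw [φ, Category.assoc, ← Functor.map_comp]; rfl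
    _ = (u.app (op p.1.1.1) ≫ B'.presheaf.map (homOfLE (q.preimage_mono h₁)).op) ≫
          B'.presheaf.map (homOfLE p'.2).op := by
        rw [Category.assoc, ← Functor.map_comp]; rfl
    _ = _ := by rw [hn]; exact Category.assoc _ _ _

/-- the chart morphism of a pair -/
noncomputable def chart (p : Pairs q) : Spec (B'.presheaf.obj (op p.1.2.1)) ⟶ B.spec :=
  Spec.map (φ q B B' u p) ≫ B.ι p.1.1.1 p.1.1.2

theorem chart_res (p p' : Pairs q) (h₁ : p'.1.1.1 ≤ p.1.1.1) (h₂ : p'.1.2.1 ≤ p.1.2.1) :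
    Spec.map (B'.presheaf.map (homOfLE h₂).op) ≫ chart q B B' u p = chart q B B' u p' := by
  rw [chart, chart, ← Spec.map_comp_assoc, φ_res q B B' u p p' h₁ h₂, Spec.map_comp_assoc,
    ι_res' B p.1.1.2 p'.1.1.2 h₁]

theorem range_ι (U : S'.Opens) (hU : IsAffineOpen U) (y : B'.spec) :
    y ∈ Set.range (B'.ι U hU) ↔ B'.π y ∈ U := by
  have h := congrArg (fun W : B'.spec.Opens => (W : Set B'.spec)) (B'.π_preimage U hU)
  exact (Set.ext_iff.1 h y).symm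

theorem exists_pair (s : S') (W : S.Opens) (W' : S'.Opens) (hW : q s ∈ W) (hW' : s ∈ W') :
    ∃ p : Pairs q, p.1.1.1 ≤ W ∧ p.1.2.1 ≤ W' ∧ s ∈ p.1.2.1 := by
  obtain ⟨_, ⟨U, hU, rfl⟩, hsU, hUW⟩ :=
    S.isBasis_affineOpens.exists_subset_of_mem_open (show q s ∈ (W : Set S) from hW) W.2
  obtain ⟨_, ⟨U', hU', rfl⟩, hsU', hUW'⟩ :=
    S'.isBasis_affineOpens.exists_subset_of_mem_open
      (show s ∈ ((W' ⊓ q ⁻¹ᵁ U : S'.Opens) : Set S') from ⟨hW', hsU⟩) (W' ⊓ q ⁻¹ᵁ U).2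
  exact ⟨⟨(⟨U, hU⟩, ⟨U', hU'⟩), fun x hx => (hUW' hx).2⟩, hUW, fun x hx => (hUW' hx).1, hsU'⟩

/-- the cover by charts of pairs -/
noncomputable def cover : B'.spec.OpenCover :=
  Scheme.Cover.mkOfCovers (Pairs q) (fun p => Spec (B'.presheaf.obj (op p.1.2.1)))
    (fun p => B'.ι p.1.2.1 p.1.2.2) (fun y => by
      obtain ⟨p, -, -, hp⟩ := exists_pair q (B'.π y) ⊤ ⊤ trivial trivial
      obtain ⟨z, hz⟩ := (range_ι B' p.1.2.1 p.1.2.2 y).2 hp
      exact ⟨p, z, hz⟩)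

theorem compat (i j : Pairs q) :
    pullback.fst ((cover q B').f i) ((cover q B').f j) ≫ chart q B B' u i =
      pullback.snd ((cover q B').f i) ((cover q B').f j) ≫ chart q B B' u j := by
  let t := pullback.fst ((cover q B').f i) ((cover q B').f j) ≫ (cover q B').f i
  have ht : t = pullback.snd ((cover q B').f i) ((cover q B').f j) ≫ (cover q B').f j := pullback.condition
  let J := {p : Pairs q // (p.1.1.1 ≤ i.1.1.1 ⊓ j.1.1.1) ∧ p.1.2.1 ≤ i.1.2.1 ⊓ j.1.2.1}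
  have hP : TopologicalSpace.IsOpenCover (fun p : J => t ⁻¹ᵁ (B'.π ⁻¹ᵁ p.1.1.2.1)) := by
    refine TopologicalSpace.IsOpenCover.mk ?_
    rw [eq_top_iff]
    intro x _
    have hi : B'.π (t x) ∈ i.1.2.1 :=
      (range_ι B' i.1.2.1 i.1.2.2 _).1 ⟨pullback.fst ((cover q B').f i) ((cover q B').f j) x, rfl⟩
    have hj : B'.π (t x) ∈ j.1.2.1 := by
      rw [ht]
      exact (range_ι B' j.1.2.1 j.1.2.2 _).1 ⟨pullback.snd ((cover q B').f i) ((cover q B').f j) x, rfl⟩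
    obtain ⟨p, h₁, h₂, h₃⟩ := exists_pair q (B'.π (t x)) (i.1.1.1 ⊓ j.1.1.1) (i.1.2.1 ⊓ j.1.2.1)
      ⟨i.2 hi, j.2 hj⟩ ⟨hi, hj⟩
    exact TopologicalSpace.Opens.mem_iSup.2 ⟨⟨p, h₁, h₂⟩, h₃⟩
  refine Scheme.Cover.hom_ext ((pullback ((cover q B').f i) ((cover q B').f j)).openCoverOfIsOpenCover _ hP) _ _
    fun p => ?_
  let Q := t ⁻¹ᵁ (B'.π ⁻¹ᵁ p.1.1.2.1)
  have hQ : Set.range (Q.ι ≫ t) ⊆ Set.range (B'.ι p.1.1.2.1 p.1.1.2.2) := by
    rintro _ ⟨w, rfl⟩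
    exact (range_ι B' _ _ _).2 w.2
  let k := IsOpenImmersion.lift (B'.ι p.1.1.2.1 p.1.1.2.2) (Q.ι ≫ t) hQ
  have hk : k ≫ B'.ι p.1.1.2.1 p.1.1.2.2 = Q.ι ≫ t := IsOpenImmersion.lift_fac _ _ _
  have key : ∀ (l : Pairs q) (h₁ : p.1.1.1.1 ≤ l.1.1.1) (h₂ : p.1.1.2.1 ≤ l.1.2.1)
      (a : pullback ((cover q B').f i) ((cover q B').f j) ⟶ Spec (B'.presheaf.obj (op l.1.2.1))),
      a ≫ B'.ι l.1.2.1 l.1.2.2 = t → Q.ι ≫ a ≫ chart q B B' u l = k ≫ chart q B B' u p.1 := by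
    intro l h₁ h₂ a ha
    have h3 : Q.ι ≫ a = k ≫ Spec.map (B'.presheaf.map (homOfLE h₂).op) := by
      rw [← cancel_mono (B'.ι l.1.2.1 l.1.2.2), Category.assoc, Category.assoc, ha,
        ι_res' B' l.1.2.2 p.1.1.2.2 h₂, hk]
    rw [reassoc_of% h3, chart_res q B B' u l p.1 h₁ h₂]
  exact (key i (p.2.1.trans inf_le_left) (p.2.2.trans inf_le_left) _ rfl).trans
    (key j (p.2.1.trans inf_le_right) (p.2.2.trans inf_le_right) _ ht.symm).symm

theorem chart_π (hu : B.str ≫ u = q.c ≫ (TopCat.Presheaf.pushforward CommRingCat.{u} q.base).map B'.str)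
    (p : Pairs q) : chart q B B' u p ≫ B.π = B'.ι p.1.2.1 p.1.2.2 ≫ B'.π ≫ q := by
  have h1 : B.str.app (op p.1.1.1) ≫ φ q B B' u p =
      q.appLE p.1.1.1 p.1.2.1 p.2 ≫ B'.str.app (op p.1.2.1) := by
    have h0 : B.str.app (op p.1.1.1) ≫ u.app (op p.1.1.1) =
        q.app p.1.1.1 ≫ B'.str.app (op (q ⁻¹ᵁ p.1.1.1)) :=
      congrArg (fun η => NatTrans.app η (op p.1.1.1)) hu
    have hn : S'.presheaf.map (homOfLE p.2).op ≫ B'.str.app (op p.1.2.1) =
        B'.str.app (op (q ⁻¹ᵁ p.1.1.1)) ≫ B'.presheaf.map (homOfLE p.2).op :=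
      B'.str.naturality (homOfLE p.2).op
    calc B.str.app (op p.1.1.1) ≫ φ q B B' u p
        = (B.str.app (op p.1.1.1) ≫ u.app (op p.1.1.1)) ≫ B'.presheaf.map (homOfLE p.2).op :=
          (Category.assoc _ _ _).symm
      _ = _ := by
          rw [h0, Category.assoc, ← hn, ← Category.assoc]
          rfl
  rw [chart, Category.assoc, B.ι_π, ← Spec.map_comp_assoc, h1, Spec.map_comp, Category.assoc,
    IsAffineOpen.SpecMap_appLE_fromSpec q p.1.1.2 p.1.2.2 p.2, ← Category.assoc, ← B'.ι_π,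
    Category.assoc]

end Groth.Agent.RelSpecQMor
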